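import Groth.Agent.H11SmoothImm.Cancel
import Mathlib

/-!
# Regular ideals cut out inside étale coordinates
-/

set_option autoImplicit false
set_option linter.style.haveILetI false
set_option linter.unusedSectionVars false

universe u

open MvPolynomial IsLocalRing

namespace Groth.Agent.H11SmoothImm

open Groth.Agent.H17.RegDescent

variable {A : Type u} [CommRing A] {d : ℕ}

/-- The prime `(q, t)` of `A[t]`. -/
noncomputable abbrev zeroPrime (d : ℕ) (q : Ideal A) : Ideal (MvPolynomial (Fin d) A) :=
  q.comap constantCoeff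

theorem sub_constantCoeff_mem (p : MvPolynomial (Fin d) A) :
    p - MvPolynomial.C (constantCoeff p) ∈ Ideal.span (Set.range (X : Fin d → MvPolynomial (Fin d) A)) := by
  induction p using MvPolynomial.induction_on with
  | C a => simp
  | add p q hp hq =>
    rw [map_add, map_add, add_sub_add_comm]
    exact add_mem hp hq
  | mul_X p i _ =>
    rw [map_mul, constantCoeff_X, mul_zero, map_zero, sub_zero]
    exact Ideal.mul_mem_left _ _ (Ideal.subset_span ⟨i, rfl⟩)

variable {B : Type u} [CommRing B] [Algebra (MvPolynomial (Fin d) A) B] [Module.Flat (MvPolynomial (Fin d) A) B]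

/-- At a point of the zero section: minimal equations of `J` have `r - d` members and form a regular sequence. -/
theorem seq_at_point {k : RegImm.Kind} (hk : k ≠ RegImm.Kind.regular) (J : Ideal A) {h : List B} (hh : k.Seq B h)
    (hI : Ideal.ofList h =
      ((J.map MvPolynomial.C) ⊔ Ideal.span (Set.range (X : Fin d → MvPolynomial (Fin d) A))).map (algebraMap _ B))
    (q : Ideal A) [q.IsPrime] (hJq : J ≤ q) (Q : Ideal B) [Q.IsPrime]
    (hQ : Q.comap (algebraMap (MvPolynomial (Fin d) A) B) = zeroPrime d q)
    (D : Type u) [CommRing D] [Algebra A D] [IsLocalization.AtPrime D q] [IsLocalRing D]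
    (f : List D) (hf : Ideal.ofList f = J.map (algebraMap A D)) (hirr : Irred f) :
    f.length + d = h.length ∧ k.Seq D f := by
  classical
  let P := MvPolynomial (Fin d) A
  haveI : (zeroPrime d q).IsPrime := Ideal.IsPrime.comap _
  let C := Localization.AtPrime (zeroPrime d q)
  have hσu : ∀ s : q.primeCompl, IsUnit ((algebraMap P C).comp MvPolynomial.C (s : A)) := fun s =>
    IsLocalization.map_units C (⟨MvPolynomial.C (s : A), fun hs => s.2 (by simpa using hs)⟩ : (zeroPrime d q).primeCompl)
  let σ : D →+* C := IsLocalization.lift hσu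
  have hσ : ∀ a, σ (algebraMap A D a) = algebraMap P C (MvPolynomial.C a) := fun a => IsLocalization.lift_eq hσu a
  have hπu : ∀ s : (zeroPrime d q).primeCompl, IsUnit ((algebraMap A D).comp (constantCoeff : P →+* A) (s : P)) :=
    fun s => IsLocalization.map_units D (⟨constantCoeff (s : P), s.2⟩ : q.primeCompl)
  let π : C →+* D := IsLocalization.lift hπu
  have hπ : ∀ p, π (algebraMap P C p) = algebraMap A D (constantCoeff p) := fun p => IsLocalization.lift_eq hπu p
  have hπσ : ∀ x, π (σ x) = x := by
    refine RingHom.congr_fun (IsLocalization.ringHom_ext q.primeCompl (j := π.comp σ) (k := RingHom.id D)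
      (RingHom.ext fun a => ?_))
    show π (σ (algebraMap A D a)) = algebraMap A D a
    rw [hσ, hπ, constantCoeff_C]
  let ts : List C := List.ofFn fun i : Fin d => algebraMap P C (X i)
  have hts_mem : ∀ i, algebraMap P C (X i) ∈ Ideal.ofList ts := fun i =>
    Ideal.subset_span (List.mem_ofFn.2 ⟨i, rfl⟩)
  have hXle : (Ideal.span (Set.range (X : Fin d → P))).map (algebraMap P C) = Ideal.ofList ts := by
    rw [Ideal.map_span, ← Set.range_comp]
    refine congrArg Ideal.span (Set.ext fun y => ?_)
    exact (List.mem_ofFn).symm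
  have hker : RingHom.ker π = Ideal.ofList ts := by
    refine le_antisymm (fun z hz => ?_) (Ideal.span_le.2 fun t ht => ?_)
    · obtain ⟨⟨p, s⟩, hps⟩ := IsLocalization.surj (zeroPrime d q).primeCompl z
      have h0 : algebraMap A D (constantCoeff p) = 0 := by
        rw [← hπ, ← hps, map_mul, RingHom.mem_ker.1 hz, zero_mul]
      obtain ⟨u, hu⟩ := (IsLocalization.map_eq_zero_iff q.primeCompl D _).1 h0
      have hmem : algebraMap P C (MvPolynomial.C (u : A) * p) ∈ Ideal.ofList ts := by
        rw [← hXle]
        refine Ideal.mem_map_of_mem _ ?_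
        have := Ideal.mul_mem_left _ (MvPolynomial.C (u : A)) (sub_constantCoeff_mem p)
        rwa [mul_sub, ← map_mul, hu, map_zero, sub_zero] at this
      rw [map_mul, ← hps, ← mul_assoc, mul_comm] at hmem
      have hu' : IsUnit (algebraMap P C s * algebraMap P C (MvPolynomial.C (u : A))) :=
        (IsLocalization.map_units C s).mul (hσu u)
      refine (Ideal.unit_mul_mem_iff_mem _ hu').1 ?_
      convert hmem using 1
      ring
    · obtain ⟨i, rfl⟩ := List.mem_ofFn.1 ht
      rw [SetLike.mem_coe, RingHom.mem_ker, hπ, constantCoeff_X, map_zero]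
  have hts : LCI.IsKoszulRegularSeq C ts := by
    refine H29Slice.isKoszulRegular_of_isWeaklyRegular ?_
    have h0 := H29Slice.isWeaklyRegular_X_append A d (rs := []) (by simp)
    rw [List.map_nil, List.append_nil] at h0
    have := RingTheory.Sequence.IsWeaklyRegular.of_flat (S := C) h0
    rwa [List.map_ofFn] at this
  have hJD : J.map (algebraMap A D) ≤ maximalIdeal D := by
    rw [← IsLocalization.AtPrime.map_eq_maximalIdeal q D]
    exact Ideal.map_mono hJq
  have hfm : ∀ x ∈ f, x ∈ maximalIdeal D := fun x hx => hJD (hf.le (Ideal.subset_span hx))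
  -- irredundancy upstairs
  let κ := q.ResidueField
  let ρ : D →+* κ := IsLocalization.lift (M := q.primeCompl) (g := algebraMap A κ) fun s =>
    isUnit_iff_ne_zero.2 fun h0 => s.2 ((Ideal.algebraMap_residueField_eq_zero).1 h0)
  have hρ : ∀ x ∈ maximalIdeal D, ρ x = 0 := by
    intro x hx
    rw [← IsLocalization.AtPrime.map_eq_maximalIdeal q D] at hx
    refine (Ideal.map_le_iff_le_comap.2 (fun a ha => ?_) : _ ≤ RingHom.ker ρ) hx
    rw [Ideal.mem_comap, RingHom.mem_ker]
    exact (IsLocalization.lift_eq _ a).trans (Ideal.algebraMap_residueField_eq_zero.2 ha)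
  have hdual : ∀ i : Fin d, ∃ φ : C →+* DualNumber κ, (∀ x ∈ maximalIdeal D, φ (σ x) = 0) ∧
      φ (algebraMap P C (X i)) = DualNumber.eps ∧ ∀ j ≠ i, φ (algebraMap P C (X j)) = 0 := by
    intro i
    let φ₀ : P →+* DualNumber κ := eval₂Hom ((TrivSqZeroExt.inlHom κ κ).comp (algebraMap A κ))
      fun j => if j = i then DualNumber.eps else 0
    have hC : ∀ a, φ₀ (MvPolynomial.C a) = TrivSqZeroExt.inl (algebraMap A κ a) := fun a => eval₂Hom_C _ _ a
    have hX : ∀ j, φ₀ (X j) = if j = i then DualNumber.eps else 0 := fun j => eval₂Hom_X' _ _ j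
    have hfst : ∀ p, TrivSqZeroExt.fst (φ₀ p) = algebraMap A κ (constantCoeff p) := by
      intro p
      induction p using MvPolynomial.induction_on with
      | C a => rw [hC, constantCoeff_C, TrivSqZeroExt.fst_inl]
      | add p p' hp hp' => simp [hp, hp']
      | mul_X p j hp =>
        simp only [map_mul, TrivSqZeroExt.fst_mul, constantCoeff_X, mul_zero, map_zero, hX]
        split_ifs <;> simp
    have hu : ∀ s : (zeroPrime d q).primeCompl, IsUnit (φ₀ s) := fun s => by
      rw [TrivSqZeroExt.isUnit_iff_isUnit_fst, hfst, isUnit_iff_ne_zero]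
      exact fun h0 => s.2 ((Ideal.algebraMap_residueField_eq_zero (I := q)).1 h0 :)
    refine ⟨IsLocalization.lift hu, fun x hx => ?_, ?_, fun j hj => ?_⟩
    · have : (IsLocalization.lift hu).comp σ = (TrivSqZeroExt.inlHom κ κ).comp ρ :=
        IsLocalization.ringHom_ext q.primeCompl (RingHom.ext fun a => by
          simp only [RingHom.comp_apply, hσ, ρ]
          rw [IsLocalization.lift_eq, IsLocalization.lift_eq, hC]; rfl)
      rw [← RingHom.comp_apply, this, RingHom.comp_apply, hρ x hx, map_zero]
    · rw [IsLocalization.lift_eq, hX, if_pos rfl]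
    · rw [IsLocalization.lift_eq, hX, if_neg hj]
  have hirrC : Irred (f.map σ ++ ts) := by
    intro l a m heq ha
    rcases List.append_eq_append_iff.1 heq with ⟨as, h1, h2⟩ | ⟨bs, h1, h2⟩
    · -- `a` is one of the coordinates
      have hidx : as.length < ts.length := by rw [h2]; simp
      have hidx' : as.length < d := by simpa [ts] using hidx
      obtain ⟨φ, hφσ, hφi, hφj⟩ := hdual ⟨as.length, hidx'⟩
      have hget : a = algebraMap P C (X ⟨as.length, hidx'⟩) := by
        have : ts[as.length] = a := by simp [h2]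
        rw [← this]; simp [ts]
      have hzero : ∀ b ∈ l ++ m, φ b = 0 := by
        intro b hb
        rw [h1] at hb
        rcases List.mem_append.1 hb with hb | hb
        · rcases List.mem_append.1 hb with hb | hb
          · obtain ⟨x, hx, rfl⟩ := List.mem_map.1 hb
            exact hφσ x (hfm x hx)
          · obtain ⟨t, ht, rfl⟩ := List.mem_iff_getElem.1 hb
            have : ts[t]'(by omega) = as[t] := by simp [h2, List.getElem_append_left, ht]
            rw [← this]
            simp only [ts, List.getElem_ofFn]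
            exact hφj _ fun e => by have : t = as.length := congrArg Fin.val e; omega
        · obtain ⟨t, ht, rfl⟩ := List.mem_iff_getElem.1 hb
          have hlt : as.length + 1 + t < ts.length := by rw [h2]; simp; omega
          have : ts[as.length + 1 + t] = m[t] := by
            simp only [h2]
            rw [List.getElem_append_right (by omega)]
            simp [show as.length + 1 + t - as.length = t + 1 by omega]
          rw [← this]
          simp only [ts, List.getElem_ofFn]
          exact hφj _ fun e => by have : as.length + 1 + t = as.length := congrArg Fin.val e; omega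
      have : φ a = 0 := (Ideal.span_le.2 hzero : Ideal.ofList (l ++ m) ≤ RingHom.ker φ) ha
      rw [hget, hφi] at this
      exact one_ne_zero (α := κ) (by simpa using congrArg TrivSqZeroExt.snd this)
    · cases bs with
      | nil =>
        rw [List.nil_append] at h2
        rw [List.append_nil] at h1
        subst h1
        -- again a coordinate
        have hidx' : 0 < d := by have : 0 < ts.length := by rw [← h2]; simp
                                 simpa [ts] using this
        obtain ⟨φ, hφσ, hφi, hφj⟩ := hdual ⟨0, hidx'⟩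
        have hget : a = algebraMap P C (X ⟨0, hidx'⟩) := by
          have : ts[0]'(by simpa [ts] using hidx') = a := by simp [← h2]
          rw [← this]; simp [ts]
        have hzero : ∀ b ∈ f.map σ ++ m, φ b = 0 := by
          intro b hb
          rcases List.mem_append.1 hb with hb | hb
          · obtain ⟨x, hx, rfl⟩ := List.mem_map.1 hb
            exact hφσ x (hfm x hx)
          · obtain ⟨t, ht, rfl⟩ := List.mem_iff_getElem.1 hb
            have hlt : 1 + t < ts.length := by rw [← h2]; simp; omega
            have : ts[1 + t] = m[t] := by simp [← h2, Nat.add_comm 1 t]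
            rw [← this]
            simp only [ts, List.getElem_ofFn]
            exact hφj _ fun e => by have : 1 + t = 0 := congrArg Fin.val e; omega
        have : φ a = 0 := (Ideal.span_le.2 hzero : Ideal.ofList (f.map σ ++ m) ≤ RingHom.ker φ) ha
        rw [hget, hφi] at this
        exact one_ne_zero (α := κ) (by simpa using congrArg TrivSqZeroExt.snd this)
      | cons b bs =>
        rw [List.cons_append, List.cons.injEq] at h2
        obtain ⟨rfl, rfl⟩ := h2
        obtain ⟨l', m₀, rfl, rfl, h'⟩ := List.map_eq_append_iff.1 h1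
        obtain ⟨a', m', rfl, rfl, rfl⟩ := List.map_eq_cons_iff.1 h'
        refine hirr l' a' m' rfl ?_
        have h3 := Ideal.mem_map_of_mem π ha
        rw [hπσ] at h3
        refine (Ideal.map_le_iff_le_comap.2 (Ideal.span_le.2 fun y hy => ?_)) h3
        have hy' : y ∈ l'.map σ ∨ y ∈ m'.map σ ∨ y ∈ ts := by
          simpa [List.mem_append, or_assoc] using hy
        rw [SetLike.mem_coe, Ideal.mem_comap]
        rcases hy' with hy' | hy' | hy'
        · obtain ⟨x, hx, rfl⟩ := List.mem_map.1 hy'
          rw [hπσ]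
          exact Ideal.subset_span (List.mem_append_left _ hx)
        · obtain ⟨x, hx, rfl⟩ := List.mem_map.1 hy'
          rw [hπσ]
          exact Ideal.subset_span (List.mem_append_right _ hx)
        · rw [RingHom.mem_ker.1 (hker.ge (Ideal.subset_span hy'))]
          exact zero_mem _
  -- the localisation of `B`
  let E := Localization.AtPrime Q
  haveI : Q.LiesOver (zeroPrime d q) := ⟨hQ.symm⟩
  letI := Localization.AtPrime.algebraOfLiesOver (zeroPrime d q) Q
  haveI : IsLocalHom (algebraMap C E) := by
    rw [Localization.AtPrime.IsLiesOverAlgebra.algebraMap_eq]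
    infer_instance
  have hCflat : (algebraMap C E).Flat := RingHom.flat_algebraMap_iff.2 inferInstance
  let L := f.map σ ++ ts
  have hirrE := irred_map (algebraMap C E) hCflat hirrC
  have hLC : Ideal.ofList L = (J.map MvPolynomial.C ⊔ Ideal.span (Set.range (X : Fin d → P))).map (algebraMap P C) := by
    have e1 : (algebraMap P C).comp MvPolynomial.C = σ.comp (algebraMap A D) := RingHom.ext fun a => (hσ a).symm
    rw [Ideal.map_sup, hXle, Ideal.map_map, e1, ← Ideal.map_map, ← hf, Ideal.map_ofList, Ideal.ofList_append]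
  have heq : Ideal.ofList (h.map (algebraMap B E)) = Ideal.ofList (L.map (algebraMap C E)) := by
    rw [← Ideal.map_ofList, hI, ← Ideal.map_ofList, hLC, Ideal.map_map, Ideal.map_map,
      ← IsScalarTower.algebraMap_eq P B E, ← IsScalarTower.algebraMap_eq P C E]
  haveI : Module.Flat B E := IsLocalization.flat E Q.primeCompl
  have hhE : k.Seq E (h.map (algebraMap B E)) := seq_flat' hk E hh
  have hne : Ideal.ofList (h.map (algebraMap B E)) ≠ ⊤ := by
    rw [heq, ← Ideal.map_ofList]
    refine ne_top_of_le_ne_top (maximalIdeal.isMaximal E).ne_top ((Ideal.map_mono ?_).trans (map_maximalIdeal_le _))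
    rw [hLC, ← IsLocalization.AtPrime.map_eq_maximalIdeal (zeroPrime d q) C]
    refine Ideal.map_mono (sup_le (Ideal.map_le_iff_le_comap.2 fun a ha => ?_) (Ideal.span_le.2 ?_))
    · rw [Ideal.mem_comap, Ideal.mem_comap, constantCoeff_C]
      exact hJq ha
    · rintro _ ⟨i, rfl⟩
      rw [SetLike.mem_coe, Ideal.mem_comap, constantCoeff_X]
      exact zero_mem _
  have hirrh := irred_of_quasi (quasi_of_seq hk hhE) hne
  have hlen : (L.map (algebraMap C E)).length = (h.map (algebraMap B E)).length :=
    le_antisymm (length_le_of_irred hirrE heq) (length_le_of_irred hirrh heq.symm)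
  refine ⟨?_, ?_⟩
  · simpa [L, ts] using hlen
  have hseqE := seq_change hk hhE hirrE heq hlen
  have hseqC : k.Seq C L := seq_descend hk L fun m hm => by
    obtain rfl : m = maximalIdeal C := IsLocalRing.eq_maximalIdeal hm
    exact ⟨E, inferInstance, inferInstance, RingHom.flat_algebraMap_iff.1 hCflat,
      ne_top_of_le_ne_top (maximalIdeal.isMaximal E).ne_top (map_maximalIdeal_le _), hseqE⟩
  exact seq_cancel hk π σ hπσ ts hker hts f hseqC

/-- Spreading out. -/
theorem exists_seq_away {k : RegImm.Kind} (hk : k ≠ RegImm.Kind.regular) (J : Ideal A) (hJ : J.FG) {h : List B}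
    (hh : k.Seq B h)
    (hI : Ideal.ofList h =
      ((J.map MvPolynomial.C) ⊔ Ideal.span (Set.range (X : Fin d → MvPolynomial (Fin d) A))).map (algebraMap _ B))
    (s : A) (hlift : ∀ q : Ideal A, q.IsPrime → J ≤ q → s ∉ q → ∃ Q : Ideal B, Q.IsPrime ∧
      Q.comap (algebraMap (MvPolynomial (Fin d) A) B) = zeroPrime d q)
    (q₀ : Ideal A) [q₀.IsPrime] (hq₀ : J ≤ q₀) (hs : s ∉ q₀) :
    ∃ a ∉ q₀, ∀ (R : Type u) [CommRing R] [Algebra A R] [IsLocalization.Away a R],
      ∃ rs : List R, k.Seq R rs ∧ J.map (algebraMap A R) = Ideal.ofList rs := by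
  classical
  obtain ⟨T, hT⟩ := hJ
  have hTl : Ideal.ofList T.toList = J := by simp only [Ideal.ofList, Finset.mem_toList]; exact hT
  let D₀ := Localization.AtPrime q₀
  obtain ⟨f, hfle, hf, hirr⟩ := exists_min_sublist (algebraMap A D₀) T.toList
  have hfJ : Ideal.ofList f ≤ J := hfle.trans hTl.le
  have hf₀ : Ideal.ofList (f.map (algebraMap A D₀)) = J.map (algebraMap A D₀) := by
    rw [hf, ← hTl, Ideal.map_ofList]
  obtain ⟨Q₀, _, hQ₀⟩ := hlift q₀ inferInstance hq₀ hs
  obtain ⟨hlen₀, -⟩ := seq_at_point hk J hh hI q₀ hq₀ Q₀ hQ₀ D₀ _ hf₀ hirr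
  rw [List.length_map] at hlen₀
  have hpt : ∀ x ∈ T, ∃ c ∉ q₀, c * x ∈ Ideal.ofList f := fun x hx => by
    have : algebraMap A D₀ x ∈ (Ideal.ofList f).map (algebraMap A D₀) := by
      rw [Ideal.map_ofList, hf₀]
      exact Ideal.mem_map_of_mem _ (hT ▸ Ideal.subset_span hx)
    exact (IsLocalization.algebraMap_mem_map_algebraMap_iff q₀.primeCompl D₀ _ _).1 this
  choose c hc hcx using hpt
  let a := s * ∏ x : T, c x.1 x.2
  refine ⟨a, fun ha' => ?_, fun R _ _ _ => ⟨f.map (algebraMap A R), ?_, ?_⟩⟩
  · rcases (‹q₀.IsPrime›.mem_or_mem ha') with ha | ha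
    · exact hs ha
    obtain ⟨x, -, hx⟩ := Ideal.IsPrime.prod_mem_iff.1 ha
    exact hc _ _ hx
  swap
  · rw [← Ideal.map_ofList]
    refine le_antisymm ?_ (Ideal.map_mono hfJ)
    rw [← hT, Ideal.map_span, Ideal.span_le]
    rintro _ ⟨x, hx, rfl⟩
    have hu : IsUnit (algebraMap A R (c x hx)) :=
      isUnit_of_dvd_unit (map_dvd _ ((Finset.dvd_prod_of_mem (fun x : T => c x.1 x.2) (Finset.mem_univ (⟨x, hx⟩ : T))).mul_left s))
        (IsLocalization.Away.algebraMap_isUnit a)
    rw [SetLike.mem_coe, ← Ideal.unit_mul_mem_iff_mem _ hu, ← map_mul]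
    exact Ideal.mem_map_of_mem _ (hcx x hx)
  refine seq_descend hk _ fun m hm => ?_
  let D := Localization.AtPrime m
  refine ⟨D, inferInstance, inferInstance, IsLocalization.flat D m.primeCompl, ?_, ?_⟩
  · rw [Localization.AtPrime.map_eq_maximalIdeal]
    exact (maximalIdeal.isMaximal D).ne_top
  by_cases htop : Ideal.ofList ((f.map (algebraMap A R)).map (algebraMap R D)) = ⊤
  · exact seq_of_eq_top hk htop
  rw [List.map_map, ← RingHom.coe_comp, ← IsScalarTower.algebraMap_eq A R D] at htop ⊢
  let q := m.comap (algebraMap A R)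
  haveI : IsLocalization.AtPrime D q :=
    IsLocalization.isLocalization_isLocalization_atPrime_isLocalization (M := Submonoid.powers a) D m
  have hgen : Ideal.ofList (f.map (algebraMap A D)) = J.map (algebraMap A D) := by
    refine le_antisymm ?_ ?_
    · rw [← Ideal.map_ofList]; exact Ideal.map_mono hfJ
    rw [IsScalarTower.algebraMap_eq A R D, ← Ideal.map_map, RingHom.coe_comp, ← List.map_map, ← Ideal.map_ofList]
    refine Ideal.map_mono ?_
    rw [← hT, Ideal.map_span, Ideal.span_le]
    rintro _ ⟨x, hx, rfl⟩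
    have hu : IsUnit (algebraMap A R (c x hx)) :=
      isUnit_of_dvd_unit (map_dvd _ ((Finset.dvd_prod_of_mem (fun x : T => c x.1 x.2) (Finset.mem_univ (⟨x, hx⟩ : T))).mul_left s))
        (IsLocalization.Away.algebraMap_isUnit a)
    rw [SetLike.mem_coe, ← Ideal.unit_mul_mem_iff_mem _ hu, ← map_mul, ← Ideal.map_ofList]
    exact Ideal.mem_map_of_mem _ (hcx x hx)
  have hJq : J ≤ q := by
    intro x hx
    by_contra hxq
    apply htop
    rw [hgen]
    exact Ideal.eq_top_of_isUnit_mem _ (Ideal.mem_map_of_mem _ hx) (IsLocalization.map_units D (⟨x, hxq⟩ : q.primeCompl))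
  have hsq : s ∉ q := fun h =>
    (inferInstance : m.IsPrime).ne_top (Ideal.eq_top_of_isUnit_mem _ (show algebraMap A R s ∈ m from h)
      (isUnit_of_dvd_unit (map_dvd _ (dvd_mul_right s _)) (IsLocalization.Away.algebraMap_isUnit a)))
  obtain ⟨Q, _, hQ⟩ := hlift q inferInstance hJq hsq
  obtain ⟨g, hgle, hg, hgirr⟩ := exists_min_sublist (algebraMap A D) f
  obtain ⟨hglen, -⟩ := seq_at_point hk J hh hI q hJq Q hQ D _ (hg.trans hgen) hgirr
  rw [List.length_map] at hglen
  refine (seq_at_point hk J hh hI q hJq Q hQ D _ hgen (irred_of_min fun l hl => ?_)).2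
  have := length_le_of_irred hgirr (hl.trans hg.symm)
  rw [List.length_map] at this ⊢
  omega

end Groth.Agent.H11SmoothImm
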