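import Groth.Agent.H17.KoszCancel.Scheme
import Groth.Agent.H29Slice.SmoothSection
import Groth.Agent.H29Slice.KoszulReg
import Mathlib

/-!
# Removing coordinates from a regular sequence
-/

set_option autoImplicit false
set_option linter.style.haveILetI false
set_option linter.unusedSectionVars false
set_option linter.unusedSimpArgs false

universe u

namespace Groth.Agent.H11SmoothImm

open Groth.Agent.H17.RegDescent

/-- The first part of a regular sequence of a retract, the second part cutting out the retraction. -/
theorem seq_cancel {k : RegImm.Kind} (hk : k ≠ RegImm.Kind.regular) {C D : Type u} [CommRing C] [CommRing D]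
    (π : C →+* D) (σ : D →+* C) (hσ : ∀ x, π (σ x) = x) (ts : List C) (hker : RingHom.ker π = Ideal.ofList ts)
    (hts : LCI.IsKoszulRegularSeq C ts) (f : List D) (h : k.Seq C (f.map σ ++ ts)) : k.Seq D f := by
  classical
  have hπ : Function.Surjective π := fun x => ⟨σ x, hσ x⟩
  have hts0 : ∀ t ∈ ts, π t = 0 := fun t ht => RingHom.mem_ker.1 (hker.ge (Ideal.subset_span ht))
  have hf : (f.map σ).map π = f := by
    rw [List.map_map, show π ∘ σ = id from funext hσ, List.map_id]
  let L := f.map σ ++ ts
  have hlen : L.length = f.length + ts.length := by simp [L]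
  let emb : Fin f.length → Fin L.length := fun i => ⟨i, by rw [hlen]; omega⟩
  have hemb : Function.Injective emb := fun a b e => Fin.ext (congrArg Fin.val e :)
  have hget : ∀ i, L.get (emb i) = σ (f.get i) := fun i => by
    simp [L, emb, List.getElem_append_left]
  have hget' : ∀ j : Fin L.length, π (L.get j) = if hj : (j : ℕ) < f.length then f.get ⟨j, hj⟩ else 0 := fun j => by
    split
    · next hj => rw [← hσ (f.get ⟨j, hj⟩), ← hget]
    · next hj =>
      refine hts0 _ ?_
      simp only [L, List.get_eq_getElem]
      rw [List.getElem_append_right (by simp; omega)]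
      exact List.getElem_mem _
  cases k with
  | regular => exact absurd rfl hk
  | koszul =>
    have := H17.KoszCancel.isKoszulRegularSeq_of_append π hπ hts hker h
    rwa [hf] at this
  | h1 =>
    intro a ha
    let c : Fin L.length → C := fun j => if hj : (j : ℕ) < f.length then σ (a ⟨j, hj⟩) else 0
    have hc : ∀ i, c (emb i) = σ (a i) := fun i => dif_pos i.2
    have h0 : ∑ j, c j * L.get j = 0 := by
      rw [← Finset.sum_subset (Finset.subset_univ (Finset.univ.image emb)) (fun j _ hj => ?_),
        Finset.sum_image hemb.injOn]
      · simp only [hc, hget, ← map_mul, ← map_sum, ha, map_zero]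
      · have : ¬ (j : ℕ) < f.length := fun hlt => hj (Finset.mem_image.2 ⟨⟨j, hlt⟩, Finset.mem_univ _, rfl⟩)
        simp [c, this]
    have hmem := h c h0
    have key : ∀ v ∈ Submodule.span C {v : Fin L.length → C | ∃ i j, v = Pi.single i (L.get j) - Pi.single j (L.get i)},
        (fun i => π (v (emb i))) ∈ Submodule.span D
          {v : Fin f.length → D | ∃ i j, v = Pi.single i (f.get j) - Pi.single j (f.get i)} := by
      intro v hv
      induction hv using Submodule.span_induction with
      | zero =>
        simp only [Pi.zero_apply, map_zero]
        exact zero_mem _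
      | add x y _ _ hx hy =>
        simp only [Pi.add_apply, map_add]
        exact add_mem hx hy
      | smul r x _ hx =>
        simp only [Pi.smul_apply, smul_eq_mul, map_mul]
        exact Submodule.smul_mem _ (π r) hx
      | mem x hx =>
        obtain ⟨i, j, rfl⟩ := hx
        by_cases hi : (i : ℕ) < f.length <;> by_cases hj : (j : ℕ) < f.length
        · refine Submodule.subset_span ⟨⟨i, hi⟩, ⟨j, hj⟩, funext fun t => ?_⟩
          simp only [Pi.sub_apply, map_sub, Pi.single_apply, apply_ite π, map_zero, hget', dif_pos hi, dif_pos hj,
            emb, Fin.ext_iff]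
        · convert zero_mem (Submodule.span D
            {v : Fin f.length → D | ∃ i j, v = Pi.single i (f.get j) - Pi.single j (f.get i)}) using 1
          refine funext fun t => ?_
          have : ¬ (t : ℕ) = j := by omega
          simp [Pi.single_apply, apply_ite π, hget' j, hj, emb, Fin.ext_iff, this, -List.get_eq_getElem]
        · convert zero_mem (Submodule.span D
            {v : Fin f.length → D | ∃ i j, v = Pi.single i (f.get j) - Pi.single j (f.get i)}) using 1
          refine funext fun t => ?_
          have : ¬ (t : ℕ) = i := by omega
          simp [Pi.single_apply, apply_ite π, hget' i, hi, emb, Fin.ext_iff, this, -List.get_eq_getElem]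
        · convert zero_mem (Submodule.span D
            {v : Fin f.length → D | ∃ i j, v = Pi.single i (f.get j) - Pi.single j (f.get i)}) using 1
          refine funext fun t => ?_
          have : ¬ (t : ℕ) = i := by omega
          have : ¬ (t : ℕ) = j := by omega
          simp [Pi.single_apply, apply_ite π, emb, Fin.ext_iff, *]
    have h2 := key c hmem
    simp only [hc, hσ] at h2
    exact h2
  | quasi =>
    intro n P hP hev e
    let Q : MvPolynomial (Fin L.length) C := MvPolynomial.rename emb (MvPolynomial.map σ P)
    have hQev : MvPolynomial.eval L.get Q = σ (MvPolynomial.eval f.get P) := by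
      rw [MvPolynomial.eval_rename, MvPolynomial.map_eval]
      congr 2
      exact funext hget
    have hspan : (Ideal.span (Set.range f.get)).map σ ≤ Ideal.span (Set.range L.get) := by
      rw [Ideal.map_span]
      refine Ideal.span_mono ?_
      rintro _ ⟨_, ⟨i, rfl⟩, rfl⟩
      exact ⟨emb i, hget i⟩
    have h1 := h n Q ((hP.map σ).rename_isHomogeneous) (by
      rw [hQev]
      exact Ideal.pow_right_mono hspan (n + 1) (Ideal.map_pow σ _ (n + 1) ▸ Ideal.mem_map_of_mem σ hev))
      (Finsupp.mapDomain emb e)
    rw [MvPolynomial.coeff_rename_mapDomain emb hemb, MvPolynomial.coeff_map] at h1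
    have h2 := Ideal.mem_map_of_mem π h1
    rw [hσ] at h2
    refine (Ideal.map_le_iff_le_comap.2 (Ideal.span_le.2 ?_)) h2
    rintro _ ⟨j, rfl⟩
    rw [SetLike.mem_coe, Ideal.mem_comap, hget' j]
    split
    · exact Ideal.subset_span ⟨_, rfl⟩
    · exact zero_mem _

end Groth.Agent.H11SmoothImm
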