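import Groth.Agent.H06Unram.AdaptedCoords
import Mathlib

/-!
# Étale coordinates inside an ideal with unramified quotient
-/

set_option autoImplicit false
set_option linter.style.haveILetI false
set_option backward.isDefEq.respectTransparency false

universe u

open TensorProduct IsLocalRing
open scoped KaehlerDifferential

namespace Groth.Agent.H11SmoothImm

variable {A B : Type u} [CommRing A] [CommRing B] [Algebra A B]

/-- If `A → B/I` is surjective, a smooth algebra has étale coordinates taken in `I`. -/
theorem exists_etale_coords [Algebra.Smooth A B] (I : Ideal B) (q : Ideal B) [q.IsPrime]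
    (hsurj : Function.Surjective (algebraMap A (B ⧸ I))) :
    ∃ f : B, f ∉ q ∧ ∃ (d : ℕ) (g : Fin d → B), (∀ i, g i ∈ I) ∧
      (MvPolynomial.aeval (fun i => algebraMap B (Localization.Away f) (g i)) :
        MvPolynomial (Fin d) A →ₐ[A] Localization.Away f).toRingHom.Etale := by
  classical
  let Bq := Localization.AtPrime q
  let k := ResidueField Bq
  haveI : Algebra.FormallySmooth B Bq := Algebra.FormallySmooth.of_isLocalization q.primeCompl
  haveI : Algebra.FormallySmooth A Bq := Algebra.FormallySmooth.comp A B Bq
  haveI : Algebra.EssFiniteType B Bq := Algebra.EssFiniteType.of_isLocalization Bq q.primeCompl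
  haveI : Algebra.EssFiniteType A Bq := Algebra.EssFiniteType.comp A B Bq
  let δ : B → k ⊗[Bq] Ω[Bq⁄A] := fun b => (1 : k) ⊗ₜ[Bq] KaehlerDifferential.D A Bq (algebraMap B Bq b)
  have hspan : Submodule.span Bq (Set.range fun b : B => KaehlerDifferential.D A Bq (algebraMap B Bq b)) = ⊤ := by
    rw [eq_top_iff]
    rintro y -
    obtain ⟨⟨m, s⟩, hs⟩ := IsLocalizedModule.surj q.primeCompl (KaehlerDifferential.map A A B Bq) y
    have hm : KaehlerDifferential.map A A B Bq m ∈
        Submodule.span Bq (Set.range fun b : B => KaehlerDifferential.D A Bq (algebraMap B Bq b)) := by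
      clear hs
      have hm' : m ∈ Submodule.span B (Set.range (KaehlerDifferential.D A B)) := by
        rw [KaehlerDifferential.span_range_derivation]; exact Submodule.mem_top
      induction hm' using Submodule.span_induction with
      | mem z hz => obtain ⟨b, rfl⟩ := hz; rw [KaehlerDifferential.map_D]; exact Submodule.subset_span ⟨b, rfl⟩
      | zero => rw [map_zero]; exact zero_mem _
      | add a b _ _ ha hb => rw [map_add]; exact add_mem ha hb
      | smul a b _ hb => rw [map_smul, algebra_compatible_smul Bq]; exact Submodule.smul_mem _ _ hb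
    rw [← hs, Submonoid.smul_def, algebra_compatible_smul Bq] at hm
    exact (Submodule.smul_mem_iff_of_isUnit _ (IsLocalization.map_units Bq s)).1 hm
  have hrange : Set.range δ ⊆ δ '' (I : Set B) := by
    rintro _ ⟨b, rfl⟩
    obtain ⟨a, ha⟩ := hsurj (Ideal.Quotient.mk I b)
    refine ⟨b - algebraMap A B a, Ideal.Quotient.eq.1 ha.symm, ?_⟩
    show (1 : k) ⊗ₜ[Bq] KaehlerDifferential.D A Bq (algebraMap B Bq (b - algebraMap A B a)) = _
    rw [map_sub, ← IsScalarTower.algebraMap_apply A B Bq, map_sub, Derivation.map_algebraMap, sub_zero]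
  have hspank : ⊤ ≤ Submodule.span k (δ '' (I : Set B)) := by
    refine le_trans ?_ (Submodule.span_mono hrange)
    rintro z -
    induction z using TensorProduct.induction_on with
    | zero => exact zero_mem _
    | add a b ha hb => exact add_mem ha hb
    | tmul c y =>
      have hy : y ∈ Submodule.span Bq (Set.range fun b : B => KaehlerDifferential.D A Bq (algebraMap B Bq b)) :=
        hspan ▸ Submodule.mem_top
      induction hy using Submodule.span_induction generalizing c with
      | mem z hz =>
        obtain ⟨b, rfl⟩ := hz
        rw [show c = c • (1 : k) by rw [smul_eq_mul, mul_one], ← TensorProduct.smul_tmul']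
        exact Submodule.smul_mem _ _ (Submodule.subset_span ⟨b, rfl⟩)
      | zero => rw [TensorProduct.tmul_zero]; exact zero_mem _
      | add a b _ _ ha hb => rw [TensorProduct.tmul_add]; exact add_mem (ha c) (hb c)
      | smul a b _ hb => rw [← TensorProduct.smul_tmul]; exact hb _
  obtain ⟨bs, hbs, hbspan, hbli⟩ := exists_linearIndependent k (δ '' (I : Set B))
  haveI : Finite bs := hbli.finite
  obtain ⟨d, ⟨e⟩⟩ := Finite.exists_equiv_fin bs
  choose g hgI hg using fun i : Fin d => hbs (e.symm i).2
  have hvk : (fun i => δ (g i)) = fun i => ((e.symm i : bs) : k ⊗[Bq] Ω[Bq⁄A]) := funext hg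
  obtain ⟨basis, hbasis⟩ := Module.exists_basis_of_basis_baseChange
    (fun i => KaehlerDifferential.D A Bq (algebraMap B Bq (g i)))
    (by
      show LinearIndependent k fun i => δ (g i)
      rw [hvk]
      exact hbli.comp _ e.symm.injective)
    (by
      show Submodule.span k (Set.range fun i => δ (g i)) = ⊤
      rw [hvk, ← Function.comp_def, Set.range_comp, e.symm.range_eq_univ, Set.image_univ, Subtype.range_coe, hbspan]
      exact top_le_iff.1 hspank)
    (Module.Flat.rTensor_preserves_injective_linearMap _ Subtype.val_injective)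
  let P := MvPolynomial (Fin d) A
  let ψ : P →ₐ[A] B := MvPolynomial.aeval g
  letI : Algebra P B := ψ.toRingHom.toAlgebra
  haveI : IsScalarTower A P B := IsScalarTower.of_algebraMap_eq fun a => (ψ.commutes a).symm
  let bP := (KaehlerDifferential.mvPolynomialBasis A (Fin d)).baseChange Bq
  have hmap : KaehlerDifferential.mapBaseChange A P Bq = (bP.equiv basis (Equiv.refl _)).toLinearMap := by
    refine bP.ext fun i => ?_
    rw [Module.Basis.baseChange_apply, KaehlerDifferential.mvPolynomialBasis_apply,
      KaehlerDifferential.mapBaseChange_tmul, KaehlerDifferential.map_D, one_smul,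
      LinearEquiv.coe_coe, show (1 : Bq) ⊗ₜ[P] KaehlerDifferential.D A P (MvPolynomial.X i) = bP i by
        rw [Module.Basis.baseChange_apply, KaehlerDifferential.mvPolynomialBasis_apply],
      Module.Basis.equiv_apply, Equiv.refl_apply, hbasis, IsScalarTower.algebraMap_apply P B Bq]
    exact congrArg (fun z => KaehlerDifferential.D A Bq (algebraMap B Bq z)) (MvPolynomial.aeval_X _ i)
  haveI : Algebra.IsSmoothAt A q := ‹Algebra.FormallySmooth A Bq›
  haveI : Algebra.IsEtaleAt P q := by
    show Algebra.FormallyEtale P Bq
    rw [H06Unram.Tower.formallyEtale_iff A P Bq, hmap]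
    exact LinearEquiv.bijective _
  haveI : Algebra.FinitePresentation P B := Algebra.FinitePresentation.of_restrict_scalars_finitePresentation A P B
  obtain ⟨f, hf, hfe⟩ := Algebra.exists_etale_of_isEtaleAt (R := P) q
  refine ⟨f, hf, d, g, hgI, ?_⟩
  have : (MvPolynomial.aeval (fun i => algebraMap B (Localization.Away f) (g i)) :
        MvPolynomial (Fin d) A →ₐ[A] Localization.Away f).toRingHom = algebraMap P (Localization.Away f) := by
    rw [IsScalarTower.algebraMap_eq P B (Localization.Away f)]
    show _ = ((IsScalarTower.toAlgHom A B (Localization.Away f)).comp ψ).toRingHom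
    rw [MvPolynomial.comp_aeval]
    rfl
  rw [this, RingHom.etale_algebraMap]
  infer_instance

end Groth.Agent.H11SmoothImm
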