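import Groth.Agent.H11SmoothImm.Algebra
import Groth.Agent.H11SmoothImm.Coords
import Mathlib

/-!
# A regular ideal of a smooth algebra with quotient a quotient of the base
-/

set_option autoImplicit false
set_option linter.style.haveILetI false
set_option linter.unusedSectionVars false

universe u

open MvPolynomial IsLocalRing

namespace Groth.Agent.H11SmoothImm

open Groth.Agent.H17.RegDescent

variable {A B : Type u} [CommRing A] [CommRing B] [Algebra A B]

/-- Near a point of `V(J)` an unramified ideal is extended from `A[t]`. -/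
theorem exists_eq_extended {d : ℕ} [Algebra (MvPolynomial (Fin d) A) B] [IsScalarTower A (MvPolynomial (Fin d) A) B]
    [Algebra.FormallyUnramified (MvPolynomial (Fin d) A) B] [Algebra.EssFiniteType (MvPolynomial (Fin d) A) B]
    (I : Ideal B) (hI : I.FG) (hX : ∀ i, algebraMap (MvPolynomial (Fin d) A) B (X i) ∈ I)
    (Q : Ideal B) [Q.IsPrime] (hIQ : I ≤ Q)
    (hdec : ∀ b : B, ∃ c : A, algebraMap A B c ∉ Q ∧ ∃ a : A, algebraMap A B c * b - algebraMap A B a ∈ I)
    (J : Ideal A) (hJ : J ≤ I.comap (algebraMap A B))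
    (hJsat : ∀ a : A, algebraMap A B a ∈ I → ∃ c : A, algebraMap A B c ∉ Q ∧ c * a ∈ J) :
    ∃ e ∉ Q, ∀ x ∈ I, e * x ∈
      (J.map MvPolynomial.C ⊔ Ideal.span (Set.range (X : Fin d → MvPolynomial (Fin d) A))).map
        (algebraMap (MvPolynomial (Fin d) A) B) := by
  classical
  let P := MvPolynomial (Fin d) A
  let J' : Ideal P := J.map MvPolynomial.C ⊔ Ideal.span (Set.range (X : Fin d → P))
  let J'B := J'.map (algebraMap P B)
  let E := Localization.AtPrime Q
  let q' := Q.comap (algebraMap P B)
  haveI : Q.LiesOver q' := ⟨rfl⟩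
  let C := Localization.AtPrime q'
  letI := Localization.AtPrime.algebraOfLiesOver q' Q
  haveI : IsLocalHom (algebraMap C E) := by
    rw [Localization.AtPrime.IsLiesOverAlgebra.algebraMap_eq]
    infer_instance
  haveI : Algebra.FormallyUnramified B E := Algebra.FormallyUnramified.of_isLocalization Q.primeCompl
  haveI : Algebra.FormallyUnramified P E := Algebra.FormallyUnramified.comp P B E
  haveI : Algebra.FormallyUnramified C E := Algebra.FormallyUnramified.of_restrictScalars P C E
  haveI : Algebra.EssFiniteType B E := Algebra.EssFiniteType.of_isLocalization E Q.primeCompl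
  haveI : Algebra.EssFiniteType P E := Algebra.EssFiniteType.comp P B E
  haveI : Algebra.EssFiniteType C E := Algebra.EssFiniteType.of_comp P C E
  have hmax : (maximalIdeal C).map (algebraMap C E) = maximalIdeal E :=
    Algebra.FormallyUnramified.map_maximalIdeal
  let T := J'B.map (algebraMap B E)
  let q := Q.comap (algebraMap A B)
  have hXmem : ∀ p : P, p - MvPolynomial.C (constantCoeff p) ∈ Ideal.span (Set.range (X : Fin d → P)) :=
    sub_constantCoeff_mem
  have hm : maximalIdeal E ≤ T ⊔ q.map ((algebraMap B E).comp (algebraMap A B)) := by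
    rw [← hmax, ← IsLocalization.AtPrime.map_eq_maximalIdeal q' C, Ideal.map_map, ← IsScalarTower.algebraMap_eq]
    refine Ideal.map_le_iff_le_comap.2 fun p hp => ?_
    have h1 : algebraMap P B (p - MvPolynomial.C (constantCoeff p)) ∈ J'B :=
      Ideal.mem_map_of_mem _ (Ideal.mem_sup_right (hXmem p))
    have h2 : algebraMap P B (p - MvPolynomial.C (constantCoeff p)) ∈ Q := by
      refine hIQ ?_
      have : Ideal.map (algebraMap P B) (Ideal.span (Set.range (X : Fin d → P))) ≤ I := by
        rw [Ideal.map_span, Ideal.span_le]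
        rintro _ ⟨_, ⟨i, rfl⟩, rfl⟩
        exact hX i
      exact this (Ideal.mem_map_of_mem _ (hXmem p))
    have h3 : constantCoeff p ∈ q := by
      show algebraMap A B (constantCoeff p) ∈ Q
      rw [IsScalarTower.algebraMap_apply A P B, show algebraMap A P (constantCoeff p) = p - (p - MvPolynomial.C (constantCoeff p)) by
        rw [sub_sub_cancel]; rfl, map_sub]
      exact sub_mem hp h2
    rw [Ideal.mem_comap, show algebraMap P E p = algebraMap B E (algebraMap P B (p - MvPolynomial.C (constantCoeff p))) +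
      ((algebraMap B E).comp (algebraMap A B)) (constantCoeff p) by
        rw [RingHom.comp_apply, IsScalarTower.algebraMap_apply A P B, ← map_add, ← map_add, IsScalarTower.algebraMap_apply P B E]
        congr 2
        exact (sub_add_cancel _ _).symm]
    exact add_mem (Ideal.mem_sup_left (Ideal.mem_map_of_mem _ h1)) (Ideal.mem_sup_right (Ideal.mem_map_of_mem _ h3))
  have hJT : ∀ a ∈ J, algebraMap B E (algebraMap A B a) ∈ T := fun a ha => by
    rw [IsScalarTower.algebraMap_apply A P B]
    exact Ideal.mem_map_of_mem _ (Ideal.mem_map_of_mem _ (Ideal.mem_sup_left (Ideal.mem_map_of_mem _ ha)))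
  let IE := I.map (algebraMap B E)
  have hTI : T ≤ IE := by
    refine Ideal.map_mono (Ideal.map_le_iff_le_comap.2 (sup_le (Ideal.map_le_iff_le_comap.2 fun a ha => ?_) (Ideal.span_le.2 ?_)))
    · show algebraMap P B (MvPolynomial.C a) ∈ I
      rw [show (MvPolynomial.C a : P) = algebraMap A P a from rfl, ← IsScalarTower.algebraMap_apply]
      exact hJ ha
    · rintro _ ⟨i, rfl⟩
      exact hX i
  have hIEQ : IE ≤ maximalIdeal E := by
    rw [← IsLocalization.AtPrime.map_eq_maximalIdeal Q E]
    exact Ideal.map_mono hIQ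
  have hle : IE ≤ T ⊔ maximalIdeal E • IE := by
    intro x hx
    obtain ⟨t, ht, w, hw, rfl⟩ := Submodule.mem_sup.1 (hm (hIEQ hx))
    have hwI : w ∈ IE := by
      have := sub_mem hx (hTI ht); rwa [add_sub_cancel_left] at this
    refine add_mem (Ideal.mem_sup_left ht) ?_
    let α : A →+* E := (algebraMap B E).comp (algebraMap A B)
    -- units of `E` congruent to the base
    have hunit : ∀ c : A, algebraMap A B c ∉ Q → IsUnit (α c) := fun c hc =>
      IsLocalization.map_units E (⟨_, hc⟩ : Q.primeCompl)
    have hfrac : ∀ u : E, ∃ c a : A, IsUnit (α c) ∧ α c * u - α a ∈ IE := fun u => by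
      obtain ⟨⟨b, v⟩, hbv⟩ := IsLocalization.surj Q.primeCompl u
      obtain ⟨c₁, hc₁, a₁, h₁⟩ := hdec b
      obtain ⟨c₂, hc₂, a₂, h₂⟩ := hdec v.1
      have ha₂ : algebraMap A B a₂ ∉ Q := fun h => ((inferInstance : Q.IsPrime).mul_notMem hc₂ v.2) (by
        simpa using add_mem (hIQ h₂) h)
      refine ⟨a₂ * c₁, c₂ * a₁, by rw [map_mul]; exact (hunit _ ha₂).mul (hunit _ hc₁), ?_⟩
      have e : α (a₂ * c₁) * u - α (c₂ * a₁) =
          α c₂ * algebraMap B E (algebraMap A B c₁ * b - algebraMap A B a₁) -
            α c₁ * u * algebraMap B E (algebraMap A B c₂ * v.1 - algebraMap A B a₂) := by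
        dsimp only at hbv
        simp only [α, RingHom.comp_apply, map_mul, map_sub, ← hbv]
        ring
      rw [e]
      exact sub_mem (Ideal.mul_mem_left _ _ (Ideal.mem_map_of_mem _ h₁)) (Ideal.mul_mem_left _ _ (Ideal.mem_map_of_mem _ h₂))
    -- write `w = a + (element of m • IE)` with a unit factor
    have key : ∃ c a : A, a ∈ q ∧ IsUnit (α c) ∧ α c * w - α a ∈ maximalIdeal E • IE := by
      clear hwI hx
      induction hw using Submodule.span_induction with
      | mem y hy =>
        obtain ⟨a, ha, rfl⟩ := hy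
        exact ⟨1, a, ha, by rw [map_one]; exact isUnit_one, by rw [map_one, one_mul, sub_self]; exact zero_mem _⟩
      | zero => exact ⟨1, 0, zero_mem _, by rw [map_one]; exact isUnit_one, by rw [map_zero, mul_zero, sub_zero]; exact zero_mem _⟩
      | add y z hy hz hy' hz' =>
        obtain ⟨c, a, ha, hc, h⟩ := hy'
        obtain ⟨c', a', ha', hc', h'⟩ := hz'
        refine ⟨c * c', c' * a + c * a', add_mem (Ideal.mul_mem_left _ _ ha) (Ideal.mul_mem_left _ _ ha'),
          by rw [map_mul]; exact hc.mul hc', ?_⟩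
        have e : α (c * c') * (y + z) - α (c' * a + c * a') = α c' • (α c * y - α a) + α c • (α c' * z - α a') := by
          simp only [smul_eq_mul, map_mul, map_add]; ring
        rw [e]
        exact add_mem (Submodule.smul_mem _ _ h) (Submodule.smul_mem _ _ h')
      | smul r y hy hy' =>
        obtain ⟨c, a, ha, hc, h⟩ := hy'
        obtain ⟨c', a', hc', h'⟩ := hfrac r
        refine ⟨c' * c, a' * a, Ideal.mul_mem_left _ _ ha, by rw [map_mul]; exact hc'.mul hc, ?_⟩
        have e : α (c' * c) * (r • y) - α (a' * a) = (α c' * r) • (α c * y - α a) + α a • (α c' * r - α a') := by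
          simp only [smul_eq_mul, map_mul]; ring
        rw [e]
        refine add_mem (Submodule.smul_mem _ _ h) (Submodule.smul_mem_smul ?_ h')
        rw [← IsLocalization.AtPrime.map_eq_maximalIdeal Q E]
        exact Ideal.mem_map_of_mem _ ha
    obtain ⟨c, a, -, hc, hca⟩ := key
    have haI : α a ∈ IE := by
      have := sub_mem (Ideal.mul_mem_left IE (α c) hwI) (Submodule.smul_le_right hca)
      rwa [sub_sub_cancel] at this
    have haT : α a ∈ T := by
      obtain ⟨v, hv, hva⟩ := (IsLocalization.algebraMap_mem_map_algebraMap_iff Q.primeCompl E _ _).1 haI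
      obtain ⟨c₁, hc₁, a₁, h₁⟩ := hdec v
      have ha₁ : algebraMap A B a₁ ∉ Q := fun h => ((inferInstance : Q.IsPrime).mul_notMem hc₁ hv) (by
        simpa using add_mem (hIQ h₁) h)
      have hJa : algebraMap A B (a₁ * a) ∈ I := by
        have e : algebraMap A B (a₁ * a) = algebraMap A B c₁ * (v * algebraMap A B a) -
            (algebraMap A B c₁ * v - algebraMap A B a₁) * algebraMap A B a := by
          rw [map_mul]; ring
        rw [e]
        exact sub_mem (Ideal.mul_mem_left _ _ hva) (Ideal.mul_mem_right _ _ h₁)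
      obtain ⟨c₀, hc₀, hc₀a⟩ := hJsat _ hJa
      have := hJT _ hc₀a
      simp only [map_mul] at this
      exact (Ideal.unit_mul_mem_iff_mem _ (hunit _ ha₁)).1 ((Ideal.unit_mul_mem_iff_mem _ (hunit _ hc₀)).1 this)
    have : α c * w ∈ T ⊔ maximalIdeal E • IE := by
      rw [show α c * w = α a + (α c * w - α a) by ring]
      exact add_mem (Ideal.mem_sup_left haT) (Ideal.mem_sup_right hca)
    exact (Ideal.unit_mul_mem_iff_mem _ hc).1 this
  have hIT : IE ≤ T := Submodule.le_of_le_smul_of_le_jacobson_bot (hI.map _) (maximalIdeal_le_jacobson _) hle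
  obtain ⟨G, hG⟩ := hI
  have hpt : ∀ x ∈ G, ∃ e ∉ Q, e * x ∈ J'B := fun x hx =>
    (IsLocalization.algebraMap_mem_map_algebraMap_iff Q.primeCompl E _ _).1
      (hIT (Ideal.mem_map_of_mem _ (hG ▸ Ideal.subset_span hx)))
  choose e he hex using hpt
  refine ⟨∏ x : G, e x.1 x.2, fun h => ?_, fun x hx => ?_⟩
  · obtain ⟨y, -, hy⟩ := Ideal.IsPrime.prod_mem_iff.1 h
    exact he _ _ hy
  · rw [← hG] at hx
    induction hx using Submodule.span_induction with
    | mem y hy =>
      obtain ⟨r, hr⟩ := Finset.dvd_prod_of_mem (fun z : G => e z.1 z.2) (Finset.mem_univ (⟨y, hy⟩ : G))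
      rw [hr, mul_comm (e y hy) r, mul_assoc]
      exact Ideal.mul_mem_left _ _ (hex y hy)
    | zero => rw [mul_zero]; exact zero_mem _
    | add y z _ _ hy hz => rw [mul_add]; exact add_mem hy hz
    | smul r y _ hy => rw [smul_eq_mul, mul_left_comm]; exact Ideal.mul_mem_left _ _ hy

end Groth.Agent.H11SmoothImm
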