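import Groth.Agent.H11SmoothImm.Local
import Mathlib

/-!
# A regular ideal of a smooth algebra: the quotient's ideal in the base is regular
-/

set_option autoImplicit false
set_option linter.style.haveILetI false
set_option linter.unusedSectionVars false

universe u

open MvPolynomial IsLocalRing

namespace Groth.Agent.H11SmoothImm

open Groth.Agent.H17.RegDescent

/-- If `A → B/I` is surjective, `B` smooth over `A` and `I` is regular, then so is `J = I ∩ A` locally. -/
theorem exists_seq_away_of_smooth {A B : Type u} [CommRing A] [CommRing B] [Algebra A B] [Algebra.Smooth A B]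
    {k : RegImm.Kind} (hk : k ≠ RegImm.Kind.regular) (I : Ideal B) {rs : List B} (hrs : k.Seq B rs)
    (hI : I = Ideal.ofList rs) (hsurj : Function.Surjective (algebraMap A (B ⧸ I)))
    (q₀ : Ideal A) [q₀.IsPrime] (hq₀ : I.comap (algebraMap A B) ≤ q₀) :
    ∃ a ∉ q₀, ∀ (R : Type u) [CommRing R] [Algebra A R] [IsLocalization.Away a R],
      ∃ fs : List R, k.Seq R fs ∧ (I.comap (algebraMap A B)).map (algebraMap A R) = Ideal.ofList fs := by
  classical
  let J := I.comap (algebraMap A B)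
  have hlift : ∀ b : B, ∃ a : A, b - algebraMap A B a ∈ I := fun b => by
    obtain ⟨a, ha⟩ := hsurj (Ideal.Quotient.mk I b)
    exact ⟨a, Ideal.Quotient.eq.1 ha.symm⟩
  have hker : RingHom.ker (algebraMap A (B ⧸ I)) = J := by
    ext a
    rw [RingHom.mem_ker, ← Ideal.Quotient.mk_algebraMap, Ideal.Quotient.eq_zero_iff_mem]
    rfl
  -- primes of `B` over the primes of `V(J)`
  have hQ : ∀ q : Ideal A, q.IsPrime → J ≤ q →
      ((q.map (algebraMap A (B ⧸ I))).comap (Ideal.Quotient.mk I)).IsPrime ∧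
        I ≤ (q.map (algebraMap A (B ⧸ I))).comap (Ideal.Quotient.mk I) ∧
          ((q.map (algebraMap A (B ⧸ I))).comap (Ideal.Quotient.mk I)).comap (algebraMap A B) = q := fun q hq hJq => by
    haveI := hq
    haveI : (q.map (algebraMap A (B ⧸ I))).IsPrime := Ideal.map_isPrime_of_surjective hsurj (hker.le.trans hJq)
    refine ⟨Ideal.IsPrime.comap _, fun x hx => ?_, ?_⟩
    · rw [Ideal.mem_comap, Ideal.Quotient.eq_zero_iff_mem.2 hx]
      exact zero_mem _
    · rw [Ideal.comap_comap]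
      show (q.map (algebraMap A (B ⧸ I))).comap (algebraMap A (B ⧸ I)) = q
      rw [Ideal.comap_map_of_surjective _ hsurj, ← RingHom.ker_eq_comap_bot, hker, sup_eq_left.2 hJq]
  obtain ⟨hQp, hIQ₀, hQ₀A⟩ := hQ q₀ inferInstance hq₀
  let Q₀ := (q₀.map (algebraMap A (B ⧸ I))).comap (Ideal.Quotient.mk I)
  haveI : Q₀.IsPrime := hQp
  have hIFG : I.FG := ⟨rs.toFinset, by rw [hI]; simp [Ideal.ofList]⟩
  have hJfg : J.FG := by
    haveI : Algebra.FinitePresentation A (B ⧸ I) := Algebra.FinitePresentation.quotient hIFG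
    have := Algebra.FinitePresentation.ker_fG_of_surjective (Algebra.ofId A (B ⧸ I)) hsurj
    exact hker ▸ this
  obtain ⟨f, hf, d, g, hg, hget⟩ := exists_etale_coords I Q₀ hsurj
  let P := MvPolynomial (Fin d) A
  let B₁ := Localization.Away f
  let ψ : P →ₐ[A] B₁ := MvPolynomial.aeval fun i => algebraMap B B₁ (g i)
  letI : Algebra P B₁ := ψ.toRingHom.toAlgebra
  haveI : IsScalarTower A P B₁ := IsScalarTower.of_algebraMap_eq fun a => (ψ.commutes a).symm
  haveI : Algebra.Etale P B₁ := RingHom.etale_algebraMap.1 hget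
  let Q₁ := Q₀.map (algebraMap B B₁)
  have hdisj : Disjoint (Submonoid.powers f : Set B) (Q₀ : Set B) :=
    (Ideal.disjoint_powers_iff_notMem f (Ideal.IsPrime.isRadical inferInstance)).2 hf
  haveI : Q₁.IsPrime := IsLocalization.isPrime_of_isPrime_disjoint (Submonoid.powers f) B₁ Q₀ inferInstance hdisj
  have hQ₁ : Q₁.comap (algebraMap B B₁) = Q₀ :=
    IsLocalization.under_map_of_isPrime_disjoint (Submonoid.powers f) B₁ inferInstance hdisj
  let I₁ := I.map (algebraMap B B₁)
  have hX : ∀ i, algebraMap P B₁ (X i) ∈ I₁ := fun i => by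
    rw [show algebraMap P B₁ (X i) = algebraMap B B₁ (g i) from MvPolynomial.aeval_X _ i]
    exact Ideal.mem_map_of_mem _ (hg i)
  have hne : ∀ n a₀, f ^ n - algebraMap A B a₀ ∈ I → algebraMap A B₁ a₀ ∉ Q₁ := fun n a₀ ha₀ h => by
    rw [IsScalarTower.algebraMap_apply A B B₁, ← Ideal.mem_comap, hQ₁] at h
    refine hf ((inferInstance : Q₀.IsPrime).mem_of_pow_mem n ?_)
    have h' := add_mem (hIQ₀ ha₀) h
    rwa [sub_add_cancel] at h'
  have hfrac : ∀ b : B₁, ∃ c : A, algebraMap A B₁ c ∉ Q₁ ∧ ∃ a : A, algebraMap A B₁ c * b - algebraMap A B₁ a ∈ I₁ := fun b => by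
    obtain ⟨⟨b', ⟨_, n, rfl⟩⟩, hb⟩ := IsLocalization.surj (Submonoid.powers f) b
    obtain ⟨a₀, ha₀⟩ := hlift (f ^ n)
    obtain ⟨a', ha'⟩ := hlift b'
    refine ⟨a₀, hne n a₀ ha₀, a', ?_⟩
    have e' : algebraMap A B₁ a₀ * b - algebraMap A B₁ a' =
        algebraMap B B₁ (b' - algebraMap A B a') - b * algebraMap B B₁ (f ^ n - algebraMap A B a₀) := by
      dsimp only at hb
      rw [IsScalarTower.algebraMap_apply A B B₁ a₀, IsScalarTower.algebraMap_apply A B B₁ a', map_sub, map_sub, ← hb]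
      ring
    rw [e']
    exact sub_mem (Ideal.mem_map_of_mem _ ha') (Ideal.mul_mem_left _ _ (Ideal.mem_map_of_mem _ ha₀))
  obtain ⟨e, he, hex⟩ := exists_eq_extended (A := A) (d := d) I₁ (hIFG.map _) hX Q₁ (Ideal.map_mono hIQ₀) hfrac J
    (fun a ha => by rw [Ideal.mem_comap, IsScalarTower.algebraMap_apply A B B₁]; exact Ideal.mem_map_of_mem _ ha)
    (fun a ha => by
      rw [IsScalarTower.algebraMap_apply A B B₁, IsLocalization.algebraMap_mem_map_algebraMap_iff (Submonoid.powers f)] at ha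
      obtain ⟨_, ⟨n, rfl⟩, hn⟩ := ha
      dsimp only at hn
      obtain ⟨a₀, ha₀⟩ := hlift (f ^ n)
      refine ⟨a₀, hne n a₀ ha₀, ?_⟩
      show algebraMap A B (a₀ * a) ∈ I
      have e' : algebraMap A B (a₀ * a) = f ^ n * algebraMap A B a - (f ^ n - algebraMap A B a₀) * algebraMap A B a := by
        rw [map_mul]; ring
      rw [e']
      exact sub_mem hn (Ideal.mul_mem_right _ _ ha₀))
  obtain ⟨⟨e', ⟨_, m, rfl⟩⟩, he'⟩ := IsLocalization.surj (Submonoid.powers f) e
  dsimp only at he'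
  obtain ⟨s, hs⟩ := hlift (f * e')
  -- a prime avoiding `s` avoids `f` and `e`
  have havoid : ∀ Q : Ideal B, Q.IsPrime → I ≤ Q → algebraMap A B s ∉ Q → f ∉ Q ∧ e' ∉ Q := fun Q _ hIQ hsQ => by
    have : f * e' ∉ Q := fun h => hsQ (by simpa using sub_mem h (hIQ hs))
    exact ⟨fun h => this (Ideal.mul_mem_right _ _ h), fun h => this (Ideal.mul_mem_left _ _ h)⟩
  have hs₀ : s ∉ q₀ := by
    intro h
    rw [← hQ₀A, Ideal.mem_comap] at h
    have h1 : f * e' ∈ Q₀ := by
      have h' := add_mem (hIQ₀ hs) h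
      rwa [sub_add_cancel] at h'
    rcases (inferInstance : Q₀.IsPrime).mem_or_mem h1 with h2 | h2
    · exact hf h2
    · refine he (((inferInstance : Q₁.IsPrime).mem_or_mem (x := e) (y := algebraMap B B₁ (f ^ m)) ?_).resolve_right ?_)
      · rw [he']; exact Ideal.mem_map_of_mem _ h2
      · rw [← Ideal.mem_comap, hQ₁]; exact fun h => hf ((inferInstance : Q₀.IsPrime).mem_of_pow_mem m h)
  let B₂ := Localization.Away e
  haveI : Module.Flat B B₁ := IsLocalization.flat B₁ (Submonoid.powers f)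
  haveI : Module.Flat B₁ B₂ := IsLocalization.flat B₂ (Submonoid.powers e)
  haveI : Module.Flat B B₂ := Module.Flat.trans B B₁ B₂
  haveI : Module.Flat P B₂ := Module.Flat.trans P B₁ B₂
  let J' : Ideal P := J.map MvPolynomial.C ⊔ Ideal.span (Set.range (X : Fin d → P))
  have hJ'I : J'.map (algebraMap P B₁) ≤ I₁ := by
    refine Ideal.map_le_iff_le_comap.2 (sup_le (Ideal.map_le_iff_le_comap.2 fun a ha => ?_) (Ideal.span_le.2 ?_))
    · show algebraMap P B₁ (MvPolynomial.C a) ∈ I₁
      rw [show (MvPolynomial.C a : P) = algebraMap A P a from rfl, ← IsScalarTower.algebraMap_apply,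
        IsScalarTower.algebraMap_apply A B B₁]
      exact Ideal.mem_map_of_mem _ ha
    · rintro _ ⟨i, rfl⟩
      exact hX i
  have hJI₁ : I₁.comap (algebraMap A B₁) ≥ J := fun a ha => by
    rw [Ideal.mem_comap, IsScalarTower.algebraMap_apply A B B₁]
    exact Ideal.mem_map_of_mem _ ha
  have hgen : Ideal.ofList (rs.map (algebraMap B B₂)) = J'.map (algebraMap P B₂) := by
    rw [← Ideal.map_ofList, ← hI, IsScalarTower.algebraMap_eq B B₁ B₂, IsScalarTower.algebraMap_eq P B₁ B₂,
      ← Ideal.map_map, ← Ideal.map_map]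
    refine le_antisymm (Ideal.map_le_iff_le_comap.2 fun x hx => ?_) (Ideal.map_mono hJ'I)
    rw [Ideal.mem_comap, ← Ideal.unit_mul_mem_iff_mem _ (IsLocalization.Away.algebraMap_isUnit (S := B₂) e), ← map_mul]
    refine Ideal.mem_map_of_mem _ ?_
    exact hex x hx
  have hseq : k.Seq B₂ (rs.map (algebraMap B B₂)) := seq_flat' hk B₂ hrs
  refine exists_seq_away hk J hJfg hseq hgen s (fun q hq hJq hsq => ?_) q₀ hq₀ hs₀
  -- the prime of `B₂` over `(q, t)`
  obtain ⟨hQp', hIQ, hQA⟩ := hQ q hq hJq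
  let Q := (q.map (algebraMap A (B ⧸ I))).comap (Ideal.Quotient.mk I)
  haveI : Q.IsPrime := hQp'
  have hsQ : algebraMap A B s ∉ Q := fun h => hsq (by rw [← hQA]; exact h)
  obtain ⟨hfQ, heQ⟩ := havoid Q inferInstance hIQ hsQ
  have hd₁ : Disjoint (Submonoid.powers f : Set B) (Q : Set B) :=
    (Ideal.disjoint_powers_iff_notMem f (Ideal.IsPrime.isRadical inferInstance)).2 hfQ
  haveI : (Q.map (algebraMap B B₁)).IsPrime :=
    IsLocalization.isPrime_of_isPrime_disjoint (Submonoid.powers f) B₁ Q inferInstance hd₁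
  have hc₁ : (Q.map (algebraMap B B₁)).comap (algebraMap B B₁) = Q :=
    IsLocalization.under_map_of_isPrime_disjoint (Submonoid.powers f) B₁ inferInstance hd₁
  have heQ₁ : e ∉ Q.map (algebraMap B B₁) := fun h => heQ (by
    rw [← hc₁, Ideal.mem_comap, ← he']
    exact Ideal.mul_mem_right _ _ h)
  have hd₂ : Disjoint (Submonoid.powers e : Set B₁) (Q.map (algebraMap B B₁) : Set B₁) :=
    (Ideal.disjoint_powers_iff_notMem e (Ideal.IsPrime.isRadical inferInstance)).2 heQ₁
  let Q₂ := (Q.map (algebraMap B B₁)).map (algebraMap B₁ B₂)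
  haveI : Q₂.IsPrime := IsLocalization.isPrime_of_isPrime_disjoint (Submonoid.powers e) B₂ _ inferInstance hd₂
  have hc₂ : Q₂.comap (algebraMap B₁ B₂) = Q.map (algebraMap B B₁) :=
    IsLocalization.under_map_of_isPrime_disjoint (Submonoid.powers e) B₂ inferInstance hd₂
  refine ⟨Q₂, inferInstance, ?_⟩
  have hC : ∀ a : A, MvPolynomial.C a ∈ Q₂.comap (algebraMap P B₂) ↔ a ∈ q := fun a => by
    rw [Ideal.mem_comap, IsScalarTower.algebraMap_apply P B₁ B₂, ← Ideal.mem_comap, hc₂,
      show algebraMap P B₁ (MvPolynomial.C a) = algebraMap B B₁ (algebraMap A B a) by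
        rw [show (MvPolynomial.C a : P) = algebraMap A P a from rfl, ← IsScalarTower.algebraMap_apply,
          IsScalarTower.algebraMap_apply A B B₁],
      ← Ideal.mem_comap, hc₁, ← Ideal.mem_comap, hQA]
  have hXQ : Ideal.span (Set.range (X : Fin d → P)) ≤ Q₂.comap (algebraMap P B₂) := by
    rw [Ideal.span_le]
    rintro _ ⟨i, rfl⟩
    rw [SetLike.mem_coe, Ideal.mem_comap, IsScalarTower.algebraMap_apply P B₁ B₂]
    exact Ideal.mem_map_of_mem _ (Ideal.map_mono hIQ (hX i))
  ext p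
  rw [zeroPrime, Ideal.mem_comap (f := constantCoeff), ← hC]
  have hp := hXQ (sub_constantCoeff_mem p)
  exact ⟨fun h => by simpa using sub_mem h hp, fun h => by simpa using add_mem hp h⟩

end Groth.Agent.H11SmoothImm
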