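import Groth.Agent.H11SmoothImm.Ring
import Groth.Agent.H17.RegDescent.Scheme
import Mathlib

/-!
# A regular immersion into a smooth scheme, immersed in the base
-/

set_option autoImplicit false
set_option linter.style.haveILetI false
set_option linter.unusedSectionVars false

universe u

open AlgebraicGeometry CategoryTheory CategoryTheory.Limits TopologicalSpace

namespace Groth.Agent.H11SmoothImm

open Groth.Agent.H17.RegDescent

variable {Y X S : Scheme.{u}}

/-- Regularity of an immersion descends along a smooth morphism. -/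
theorem regularAt_of_smooth (p : X ⟶ S) [Smooth p] (i : Y ⟶ X) (j : Y ⟶ S) [IsImmersion i] [IsImmersion j]
    (h : i ≫ p = j) {k : RegImm.Kind} (hk : k ≠ RegImm.Kind.regular) (y : Y)
    (hi : RegImm.IsRegularImmersionAt k i y) : RegImm.IsRegularImmersionAt k j y := by
  obtain ⟨V, hyV, -, hclV⟩ := exists_affine_closed j y ⊤ (Opens.mem_top _)
  have hji : ∀ z : Y, p (i z) = j z := fun z => by rw [← h]; rfl
  obtain ⟨U, hyU, hUV, hclU, rs, hrs, hker⟩ := exists_chart_le hk i y hi (p ⁻¹ᵁ V.1)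
    (show p (i y) ∈ V.1 from (hji y).symm ▸ hyV)
  obtain ⟨O, hO, hOU⟩ := j.isEmbedding.isInducing.isOpen_iff.1 (i ⁻¹ᵁ U.1).isOpen
  have hyO : j y ∈ (⟨O, hO⟩ : S.Opens) := show y ∈ j.base ⁻¹' O from hOU.symm ▸ hyU
  obtain ⟨a, haO, hya⟩ := V.2.exists_basicOpen_le (V := (⟨O, hO⟩ : S.Opens)) ⟨j y, hyO⟩ hyV
  let V' := S.basicOpen a
  have hV' : IsAffineOpen V' := V.2.basicOpen a
  let U' := X.basicOpen (p.appLE V.1 U.1 hUV a)
  have hU' : IsAffineOpen U' := U.2.basicOpen _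
  have hU'eq : U' = U.1 ⊓ p ⁻¹ᵁ V' := by
    show X.basicOpen _ = _
    rw [Scheme.basicOpen_appLE]
  have e : U' ≤ p ⁻¹ᵁ V' := hU'eq.le.trans inf_le_right
  have hU'U : U' ≤ U.1 := X.basicOpen_le _
  have H : IsPullback (𝟙 Y) i i (𝟙 X) := IsPullback.of_horiz_isIso ⟨by simp⟩
  have Hj : IsPullback (𝟙 Y) j j (𝟙 S) := IsPullback.of_horiz_isIso ⟨by simp⟩
  obtain ⟨hclU', hkerU'⟩ := H29Slice.restrict_baseChange H U.2 hclU hU' (e := hU'U)
  obtain ⟨hclV', -⟩ := H29Slice.restrict_baseChange Hj V.2 hclV hV' (e := S.basicOpen_le a)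
  have hWeq : i ⁻¹ᵁ U' = j ⁻¹ᵁ V' := by
    ext z
    show i z ∈ U' ↔ j z ∈ V'
    rw [hU'eq]
    show (i z ∈ U.1 ∧ p (i z) ∈ V') ↔ _
    rw [hji]
    refine ⟨fun hz => hz.2, fun hz => ⟨?_, hz⟩⟩
    have hz' : z ∈ j.base ⁻¹' O := haO hz
    exact (Set.ext_iff.1 hOU z).1 hz'
  have hyU' : i y ∈ U' := show y ∈ i ⁻¹ᵁ U' from hWeq.symm ▸ hya
  letI := (p.appLE V' U' e).hom.toAlgebra
  haveI : Algebra.Smooth Γ(S, V') Γ(X, U') := p.smooth_appLE hV' hU' e
  let I : Ideal Γ(X, U') := RingHom.ker (i.app U').hom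
  let rs' : List Γ(X, U') := rs.map (X.presheaf.map (homOfLE hU'U).op).hom
  have hI : I = Ideal.ofList rs' := by
    show RingHom.ker (i.app U').hom = _
    rw [hkerU', hker, Ideal.map_ofList]
    simp only [rs', Scheme.Hom.appLE, Scheme.Hom.id_app]
    rfl
  have hrs' : k.Seq Γ(X, U') rs' := by
    letI : Algebra Γ(X, U.1) Γ(X, U') := (X.presheaf.map (homOfLE hU'U).op).hom.toAlgebra
    haveI : IsLocalization.Away (p.appLE V.1 U.1 hUV a) Γ(X, U') := U.2.isLocalization_basicOpen _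
    haveI : Module.Flat Γ(X, U.1) Γ(X, U') := IsLocalization.flat _ (Submonoid.powers (p.appLE V.1 U.1 hUV a))
    exact seq_flat' hk Γ(X, U') hrs
  -- the triangle on sections
  have hcomp : p.appLE V' U' e ≫ i.app U' = j.app V' ≫ Y.presheaf.map (eqToHom hWeq).op := by
    have h1 : p.appLE V' U' e ≫ i.app U' = (i ≫ p).appLE V' (i ⁻¹ᵁ U') (i.preimage_mono e) := by
      rw [← Scheme.Hom.appLE_eq_app, Scheme.Hom.appLE_comp_appLE]
    rw [h1]
    subst h
    rfl
  haveI : IsIso (Y.presheaf.map (eqToHom hWeq).op) := inferInstance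
  have hcomp' : ∀ x, (i.app U').hom ((p.appLE V' U' e).hom x) = (Y.presheaf.map (eqToHom hWeq).op).hom ((j.app V').hom x) :=
    fun x => congrArg (fun f => f.hom x) hcomp
  have hbij := ConcreteCategory.bijective_of_isIso (Y.presheaf.map (eqToHom hWeq).op)
  have hJ : RingHom.ker (j.app V').hom = I.comap (algebraMap Γ(S, V') Γ(X, U')) := by
    ext x
    show (j.app V').hom x = 0 ↔ (i.app U').hom ((p.appLE V' U' e).hom x) = 0
    rw [hcomp']
    exact ⟨fun h0 => by rw [h0, map_zero], fun h0 => hbij.1 (h0.trans (map_zero _).symm)⟩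
  have hsurj : Function.Surjective (algebraMap Γ(S, V') (Γ(X, U') ⧸ I)) := fun b => by
    obtain ⟨b, rfl⟩ := Ideal.Quotient.mk_surjective b
    obtain ⟨w, hw⟩ := hbij.2 ((i.app U').hom b)
    obtain ⟨x, hx⟩ := (H29Slice.preimage_affine_and_surjective j hV' hclV').2 w
    refine ⟨x, ?_⟩
    rw [← Ideal.Quotient.mk_algebraMap, Ideal.Quotient.eq]
    show (i.app U').hom ((p.appLE V' U' e).hom x - b) = 0
    rw [map_sub, hcomp', hx, sub_eq_zero]
    exact hw
  let q := hV'.primeIdealOf ⟨j y, hya⟩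
  have hq : I.comap (algebraMap Γ(S, V') Γ(X, U')) ≤ q.asIdeal := fun x hx => by
    refine (_root_.H29Blow.mem_primeIdealOf_iff hV' ⟨j y, hya⟩ _).mpr fun hu => ?_
    have h0 : j.app V' x = 0 := hJ.ge hx
    have h1 := hu.map (j.stalkMap y).hom
    erw [Scheme.Hom.germ_stalkMap_apply, h0, map_zero] at h1
    exact not_isUnit_zero h1
  obtain ⟨a', ha', hR⟩ := exists_seq_away_of_smooth hk I hrs' hI hsurj q.asIdeal hq
  let V'' := S.basicOpen a'
  have hV'' : IsAffineOpen V'' := hV'.basicOpen a'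
  have hle : V'' ≤ V' := S.basicOpen_le a'
  obtain ⟨hclV'', hkerV''⟩ := H29Slice.restrict_baseChange Hj hV' hclV' hV'' (e := hle)
  have hy'' : j y ∈ V'' := by
    have h0 : q ∈ hV'.fromSpec ⁻¹ᵁ V'' := by rw [hV'.fromSpec_preimage_basicOpen a']; exact ha'
    have h1 : hV'.fromSpec q = j y := hV'.fromSpec_primeIdealOf ⟨j y, hya⟩
    rw [← h1]; exact h0
  letI : Algebra Γ(S, V') Γ(S, V'') := (S.presheaf.map (homOfLE hle).op).hom.toAlgebra
  haveI : IsLocalization.Away a' Γ(S, V'') := hV'.isLocalization_basicOpen a'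
  obtain ⟨fs, hfs, hfs'⟩ := hR Γ(S, V'')
  refine ⟨⟨V'', hV''⟩, hy'', hclV'', fs, hfs, ?_⟩
  rw [hkerV'', hJ, ← hfs']
  simp only [Scheme.Hom.appLE, Scheme.Hom.id_app]
  rfl

end Groth.Agent.H11SmoothImm
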